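import Mathlib
import Cfsg.Prelude.Def_SporadicCombinatorics

/-!
# The hexacode over the four-element model

The field of four elements is coded on `Fin 4` as `0, 1, ω, ω²`; the hexacode becomes 64 explicit words.
-/

set_option autoImplicit false

namespace Cfsg.Agent.Hexacode

/-- Sum in the model. -/
def addK (a b : Fin 4) : Fin 4 := (![![0, 1, 2, 3], ![1, 0, 3, 2], ![2, 3, 0, 1], ![3, 2, 1, 0]] : Fin 4 → Fin 4 → Fin 4) a b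

/-- Product in the model. -/
def mulK (a b : Fin 4) : Fin 4 := (![![0, 0, 0, 0], ![0, 1, 2, 3], ![0, 2, 3, 1], ![0, 3, 1, 2]] : Fin 4 → Fin 4 → Fin 4) a b

/-- The defining vectors. -/
def gen : Fin 3 → Fin 6 → Fin 4 := ![![2, 3, 3, 2, 3, 2], ![3, 2, 2, 3, 3, 2], ![3, 2, 3, 2, 2, 3]]

/-- The systematic basis. -/
def sysBasis : Fin 3 → Fin 6 → Fin 4 := ![![1, 0, 0, 1, 3, 2], ![0, 1, 0, 1, 2, 3], ![0, 0, 1, 1, 1, 1]]

/-- The combination of three rows. -/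
def comb (v : Fin 3 → Fin 6 → Fin 4) (a : Fin 3 → Fin 4) (i : Fin 6) : Fin 4 :=
  addK (addK (mulK (a 0) (v 0 i)) (mulK (a 1) (v 1 i))) (mulK (a 2) (v 2 i))

/-- The word with the three information symbols `a`. -/
def word (a : Fin 3 → Fin 4) : Fin 6 → Fin 4 := comb sysBasis a

/-- The information symbols. -/
def info (w : Fin 6 → Fin 4) : Fin 3 → Fin 4 := ![w 0, w 1, w 2]

/-- Whether a word is in the code. -/
def isWord (w : Fin 6 → Fin 4) : Bool := (List.finRange 6).all fun i => word (info w) i == w i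

/-- A monomial map in the model. -/
def mon (σ : Equiv.Perm (Fin 6)) (k : Fin 6 → Fin 4) (w : Fin 6 → Fin 4) : Fin 6 → Fin 4 :=
  fun i => mulK (k i) (w (σ.symm i))

/-- Whether a monomial map keeps the code. -/
def keeps (σ : Equiv.Perm (Fin 6)) (k : Fin 6 → Fin 4) : Bool :=
  (List.finRange 3).all fun j => isWord (mon σ k (sysBasis j))

/-- For each product of two adjacent transpositions a diagonal part making it an automorphism. -/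
def pairWitness : List ((Fin 6 × Fin 6 × Fin 6) × (Fin 6 → Fin 4)) := [
  ((0, 1, 2), ![1, 1, 1, 1, 2, 3]),
  ((0, 1, 3), ![1, 1, 1, 1, 3, 2]),
  ((0, 1, 4), ![1, 1, 2, 3, 1, 1]),
  ((0, 1, 5), ![1, 1, 3, 2, 1, 1]),
  ((0, 2, 1), ![1, 1, 1, 1, 3, 2]),
  ((0, 2, 3), ![1, 1, 1, 1, 2, 3]),
  ((0, 2, 4), ![1, 3, 3, 2, 2, 1]),
  ((0, 2, 5), ![1, 2, 2, 3, 1, 3]),
  ((0, 3, 1), ![1, 1, 1, 1, 2, 3]),
  ((0, 3, 2), ![1, 1, 1, 1, 3, 2]),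
  ((0, 3, 4), ![1, 2, 3, 2, 3, 1]),
  ((0, 3, 5), ![1, 3, 2, 3, 1, 2]),
  ((0, 4, 1), ![1, 1, 3, 2, 1, 1]),
  ((0, 4, 2), ![1, 3, 2, 1, 3, 2]),
  ((0, 4, 3), ![1, 2, 1, 3, 2, 3]),
  ((0, 4, 5), ![1, 1, 2, 3, 1, 1]),
  ((0, 5, 1), ![1, 1, 2, 3, 1, 1]),
  ((0, 5, 2), ![1, 2, 3, 1, 3, 2]),
  ((0, 5, 3), ![1, 3, 1, 2, 2, 3]),
  ((0, 5, 4), ![1, 1, 3, 2, 1, 1]),
  ((1, 0, 2), ![1, 1, 1, 1, 3, 2]),
  ((1, 0, 3), ![1, 1, 1, 1, 2, 3]),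
  ((1, 0, 4), ![1, 1, 3, 2, 1, 1]),
  ((1, 0, 5), ![1, 1, 2, 3, 1, 1]),
  ((1, 2, 0), ![1, 1, 1, 1, 2, 3]),
  ((1, 2, 3), ![1, 1, 1, 1, 3, 2]),
  ((1, 2, 4), ![1, 3, 1, 2, 2, 3]),
  ((1, 2, 5), ![1, 2, 1, 3, 2, 3]),
  ((1, 3, 0), ![1, 1, 1, 1, 3, 2]),
  ((1, 3, 2), ![1, 1, 1, 1, 2, 3]),
  ((1, 3, 4), ![1, 2, 3, 1, 3, 2]),
  ((1, 3, 5), ![1, 3, 2, 1, 3, 2]),
  ((1, 4, 0), ![1, 1, 2, 3, 1, 1]),
  ((1, 4, 2), ![1, 3, 2, 3, 1, 2]),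
  ((1, 4, 3), ![1, 2, 2, 3, 1, 3]),
  ((1, 4, 5), ![1, 1, 3, 2, 1, 1]),
  ((1, 5, 0), ![1, 1, 3, 2, 1, 1]),
  ((1, 5, 2), ![1, 2, 3, 2, 3, 1]),
  ((1, 5, 3), ![1, 3, 3, 2, 2, 1]),
  ((1, 5, 4), ![1, 1, 2, 3, 1, 1]),
  ((2, 0, 1), ![1, 1, 1, 1, 2, 3]),
  ((2, 0, 3), ![1, 1, 1, 1, 3, 2]),
  ((2, 0, 4), ![1, 3, 2, 1, 3, 2]),
  ((2, 0, 5), ![1, 2, 3, 1, 3, 2]),
  ((2, 1, 0), ![1, 1, 1, 1, 3, 2]),
  ((2, 1, 3), ![1, 1, 1, 1, 2, 3]),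
  ((2, 1, 4), ![1, 3, 2, 3, 1, 2]),
  ((2, 1, 5), ![1, 2, 3, 2, 3, 1]),
  ((2, 3, 0), ![1, 1, 1, 1, 2, 3]),
  ((2, 3, 1), ![1, 1, 1, 1, 3, 2]),
  ((2, 3, 4), ![1, 2, 3, 3, 3, 3]),
  ((2, 3, 5), ![1, 3, 2, 2, 2, 2]),
  ((2, 4, 0), ![1, 3, 3, 2, 2, 1]),
  ((2, 4, 1), ![1, 3, 1, 2, 2, 3]),
  ((2, 4, 3), ![1, 3, 2, 2, 2, 2]),
  ((2, 4, 5), ![1, 2, 3, 3, 3, 3]),
  ((2, 5, 0), ![1, 2, 2, 3, 1, 3]),
  ((2, 5, 1), ![1, 2, 1, 3, 2, 3]),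
  ((2, 5, 3), ![1, 2, 3, 3, 3, 3]),
  ((2, 5, 4), ![1, 3, 2, 2, 2, 2]),
  ((3, 0, 1), ![1, 1, 1, 1, 3, 2]),
  ((3, 0, 2), ![1, 1, 1, 1, 2, 3]),
  ((3, 0, 4), ![1, 2, 1, 3, 2, 3]),
  ((3, 0, 5), ![1, 3, 1, 2, 2, 3]),
  ((3, 1, 0), ![1, 1, 1, 1, 2, 3]),
  ((3, 1, 2), ![1, 1, 1, 1, 3, 2]),
  ((3, 1, 4), ![1, 2, 2, 3, 1, 3]),
  ((3, 1, 5), ![1, 3, 3, 2, 2, 1]),
  ((3, 2, 0), ![1, 1, 1, 1, 3, 2]),
  ((3, 2, 1), ![1, 1, 1, 1, 2, 3]),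
  ((3, 2, 4), ![1, 3, 2, 2, 2, 2]),
  ((3, 2, 5), ![1, 2, 3, 3, 3, 3]),
  ((3, 4, 0), ![1, 2, 3, 2, 3, 1]),
  ((3, 4, 1), ![1, 2, 3, 1, 3, 2]),
  ((3, 4, 2), ![1, 2, 3, 3, 3, 3]),
  ((3, 4, 5), ![1, 3, 2, 2, 2, 2]),
  ((3, 5, 0), ![1, 3, 2, 3, 1, 2]),
  ((3, 5, 1), ![1, 3, 2, 1, 3, 2]),
  ((3, 5, 2), ![1, 3, 2, 2, 2, 2]),
  ((3, 5, 4), ![1, 2, 3, 3, 3, 3]),
  ((4, 0, 1), ![1, 1, 2, 3, 1, 1]),
  ((4, 0, 2), ![1, 3, 3, 2, 2, 1]),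
  ((4, 0, 3), ![1, 2, 3, 2, 3, 1]),
  ((4, 0, 5), ![1, 1, 3, 2, 1, 1]),
  ((4, 1, 0), ![1, 1, 3, 2, 1, 1]),
  ((4, 1, 2), ![1, 3, 1, 2, 2, 3]),
  ((4, 1, 3), ![1, 2, 3, 1, 3, 2]),
  ((4, 1, 5), ![1, 1, 2, 3, 1, 1]),
  ((4, 2, 0), ![1, 3, 2, 1, 3, 2]),
  ((4, 2, 1), ![1, 3, 2, 3, 1, 2]),
  ((4, 2, 3), ![1, 2, 3, 3, 3, 3]),
  ((4, 2, 5), ![1, 3, 2, 2, 2, 2]),
  ((4, 3, 0), ![1, 2, 1, 3, 2, 3]),
  ((4, 3, 1), ![1, 2, 2, 3, 1, 3]),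
  ((4, 3, 2), ![1, 3, 2, 2, 2, 2]),
  ((4, 3, 5), ![1, 2, 3, 3, 3, 3]),
  ((4, 5, 0), ![1, 1, 2, 3, 1, 1]),
  ((4, 5, 1), ![1, 1, 3, 2, 1, 1]),
  ((4, 5, 2), ![1, 2, 3, 3, 3, 3]),
  ((4, 5, 3), ![1, 3, 2, 2, 2, 2]),
  ((5, 0, 1), ![1, 1, 3, 2, 1, 1]),
  ((5, 0, 2), ![1, 2, 2, 3, 1, 3]),
  ((5, 0, 3), ![1, 3, 2, 3, 1, 2]),
  ((5, 0, 4), ![1, 1, 2, 3, 1, 1]),
  ((5, 1, 0), ![1, 1, 2, 3, 1, 1]),
  ((5, 1, 2), ![1, 2, 1, 3, 2, 3]),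
  ((5, 1, 3), ![1, 3, 2, 1, 3, 2]),
  ((5, 1, 4), ![1, 1, 3, 2, 1, 1]),
  ((5, 2, 0), ![1, 2, 3, 1, 3, 2]),
  ((5, 2, 1), ![1, 2, 3, 2, 3, 1]),
  ((5, 2, 3), ![1, 3, 2, 2, 2, 2]),
  ((5, 2, 4), ![1, 2, 3, 3, 3, 3]),
  ((5, 3, 0), ![1, 3, 1, 2, 2, 3]),
  ((5, 3, 1), ![1, 3, 3, 2, 2, 1]),
  ((5, 3, 2), ![1, 2, 3, 3, 3, 3]),
  ((5, 3, 4), ![1, 3, 2, 2, 2, 2]),
  ((5, 4, 0), ![1, 1, 3, 2, 1, 1]),
  ((5, 4, 1), ![1, 1, 2, 3, 1, 1]),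
  ((5, 4, 2), ![1, 3, 2, 2, 2, 2]),
  ((5, 4, 3), ![1, 2, 3, 3, 3, 3])]

/-- The six-symbol vector with code `n`, all symbols non-zero. -/
def diagOf (n : ℕ) (i : Fin 6) : Fin 4 := ![1, 2, 3] ⟨(n / 3 ^ i.val) % 3, Nat.mod_lt _ (by norm_num)⟩

theorem info_word : ∀ a, info (word a) = a := by decide +kernel

theorem isWord_iff (w : Fin 6 → Fin 4) : isWord w = true ↔ word (info w) = w := by
  simp [isWord, funext_iff]

theorem word_addK : ∀ a b : Fin 3 → Fin 4, ∀ i, addK (word a i) (word b i) = word (fun j => addK (a j) (b j)) i := by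
  decide +kernel

theorem word_mulK : ∀ (s : Fin 4) (a : Fin 3 → Fin 4), ∀ i, mulK s (word a i) = word (fun j => mulK s (a j)) i := by
  decide +kernel

theorem gen_isWord : ∀ j, isWord (gen j) = true := by decide +kernel

theorem word_eq_comb : ∀ a, ∃ b, ∀ i, word a i = comb gen b i := by decide +kernel

theorem word_zero : ∀ i, word (fun _ => 0) i = 0 := by decide +kernel

theorem weight_word : ∀ a : Fin 3 → Fin 4, a = (fun _ => 0) ∨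
    (Finset.univ.filter fun i => word a i ≠ 0).card = 4 ∨ (Finset.univ.filter fun i => word a i ≠ 0).card = 6 := by
  decide +kernel

theorem weight_counts :
    ((Finset.univ : Finset (Fin 3 → Fin 4)).filter
      fun a => (Finset.univ.filter fun i => word a i ≠ 0).card = 4).card = 45 ∧
    ((Finset.univ : Finset (Fin 3 → Fin 4)).filter
      fun a => (Finset.univ.filter fun i => word a i ≠ 0).card = 6).card = 18 := by
  decide +kernel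

theorem addK_ne_zero : ∀ a b, a ≠ b → addK a b ≠ 0 := by decide

section Field

variable {F : Type*} [Field F] [Fintype F] (hF : Fintype.card F = 4) {ω : F} (hω : ω ^ 2 + ω + 1 = 0)

/-- The value of a symbol. -/
def emb (ω : F) (k : Fin 4) : F := ![0, 1, ω, ω ^ 2] k

include hF in
theorem two_eq_zero : (2 : F) = 0 := by
  have h4 : ((4 : ℕ) : F) = 0 := hF ▸ FiniteField.cast_card_eq_zero F
  have h : (2 : F) * 2 = 0 := by rw [← h4]; norm_num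
  exact (mul_self_eq_zero.1 h)

include hF hω in
theorem emb_add (a b : Fin 4) : emb ω (addK a b) = emb ω a + emb ω b := by
  have h2 := two_eq_zero hF
  fin_cases a <;> fin_cases b <;> simp [addK, emb] <;>
    first
      | linear_combination (-1 : F) * h2
      | linear_combination (-ω) * h2
      | linear_combination (-ω ^ 2) * h2
      | linear_combination hω - (ω + 1) * h2
      | linear_combination hω - (ω ^ 2 + ω) * h2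
      | linear_combination hω - (ω ^ 2 + 1) * h2

include hω in
theorem emb_mul (a b : Fin 4) : emb ω (mulK a b) = emb ω a * emb ω b := by
  fin_cases a <;> fin_cases b <;> simp [mulK, emb] <;>
    first
      | ring1
      | linear_combination (1 - ω) * hω
      | linear_combination (-ω * (ω - 1)) * hω

include hF hω in
theorem emb_injective : Function.Injective (emb ω) := by
  have h2 := two_eq_zero hF
  have hω0 : ω ≠ 0 := fun h => by rw [h] at hω; simp at hω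
  intro a b h
  by_contra hab
  have hs : emb ω (addK a b) = 0 := by rw [emb_add hF hω, h]; linear_combination (emb ω b) * h2
  have hne : addK a b ≠ 0 := addK_ne_zero a b hab
  revert hs hne
  generalize addK a b = c
  fin_cases c <;> simp [emb, hω0]

include hF hω in
theorem emb_surjective : Function.Surjective (emb ω) :=
  ((Fintype.bijective_iff_injective_and_card _).2 ⟨emb_injective hF hω, by rw [hF]; rfl⟩).2

include hF hω in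
theorem emb_eq_zero {k : Fin 4} : emb ω k = 0 ↔ k = 0 :=
  ⟨fun h => emb_injective hF hω (h.trans rfl), fun h => h ▸ rfl⟩

include hF hω in
theorem mem_hexacode {x : Fin 6 → F} :
    x ∈ Cfsg.hexacode F ω ↔ ∃ a, x = fun i => emb ω (word a i) := by
  have hgen : ∀ j, (fun i => emb ω (gen j i)) ∈
      ({![ω, ω ^ 2, ω ^ 2, ω, ω ^ 2, ω], ![ω ^ 2, ω, ω, ω ^ 2, ω ^ 2, ω],
        ![ω ^ 2, ω, ω ^ 2, ω, ω, ω ^ 2]} : Set (Fin 6 → F)) := by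
    intro j
    fin_cases j
    · left; funext i; fin_cases i <;> rfl
    · right; left; funext i; fin_cases i <;> rfl
    · right; right; show _ = _; funext i; fin_cases i <;> rfl
  constructor
  · intro hx
    induction hx using Submodule.span_induction with
    | mem y hy =>
      obtain ⟨j, rfl⟩ : ∃ j, y = fun i => emb ω (gen j i) := by
        rcases hy with rfl | rfl | rfl
        · exact ⟨0, by funext i; fin_cases i <;> rfl⟩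
        · exact ⟨1, by funext i; fin_cases i <;> rfl⟩
        · exact ⟨2, by funext i; fin_cases i <;> rfl⟩
      exact ⟨info (gen j), funext fun i => by rw [(isWord_iff _).1 (gen_isWord j)]⟩
    | zero => exact ⟨fun _ => 0, funext fun i => by rw [word_zero]; rfl⟩
    | add y z _ _ hy hz =>
      obtain ⟨a, rfl⟩ := hy
      obtain ⟨b, rfl⟩ := hz
      exact ⟨fun j => addK (a j) (b j), funext fun i => by rw [← word_addK, emb_add hF hω]; rfl⟩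
    | smul s y _ hy =>
      obtain ⟨a, rfl⟩ := hy
      obtain ⟨k, rfl⟩ := emb_surjective hF hω s
      exact ⟨fun j => mulK k (a j), funext fun i => by rw [← word_mulK, emb_mul hω]; rfl⟩
  · rintro ⟨a, rfl⟩
    obtain ⟨b, hb⟩ := word_eq_comb a
    have e : (fun i => emb ω (word a i)) = emb ω (b 0) • (fun i => emb ω (gen 0 i)) +
        emb ω (b 1) • (fun i => emb ω (gen 1 i)) + emb ω (b 2) • (fun i => emb ω (gen 2 i)) := by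
      funext i
      simp only [hb, comb, emb_add hF hω, emb_mul hω, Pi.add_apply, Pi.smul_apply, smul_eq_mul]
    rw [e]
    exact add_mem (add_mem (Submodule.smul_mem _ _ (Submodule.subset_span (hgen 0)))
      (Submodule.smul_mem _ _ (Submodule.subset_span (hgen 1))))
      (Submodule.smul_mem _ _ (Submodule.subset_span (hgen 2)))

end Field

end Cfsg.Agent.Hexacode
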